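import Groth.Agent.DvrSpec.Field

/-!
An unramified extension tensored with a generically finite extension of a discrete valuation ring.
-/

set_option autoImplicit false
set_option linter.style.haveILetI false
set_option backward.isDefEq.respectTransparency false
set_option backward.isDefEq.respectTransparency.types false
set_option maxHeartbeats 1000000

universe u

open IsLocalRing TensorProduct Polynomial

namespace Groth.Agent.DvrSpec

variable {R : Type u} [CommRing R] [IsDomain R] [IsDiscreteValuationRing R]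
  {R' : Type u} [CommRing R'] [IsDomain R'] [IsDiscreteValuationRing R'] [Algebra R R']

/-- generically finite extensions are algebraic -/
theorem isAlgebraic_of_generic_finite (hinj : Function.Injective (algebraMap R R'))
    [Module.Finite (FractionRing R) (FractionRing R ⊗[R] R')] (r : R') : IsAlgebraic R r := by
  haveI : FaithfulSMul R R' := (faithfulSMul_iff_algebraMap_injective R R').2 hinj
  haveI : FaithfulSMul R (FractionRing R') := (faithfulSMul_iff_algebraMap_injective R _).2 (by
    rw [IsScalarTower.algebraMap_eq R R' (FractionRing R')]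
    exact (IsFractionRing.injective R' (FractionRing R')).comp hinj)
  letI := FractionRing.liftAlgebra R (FractionRing R')
  let μ : FractionRing R ⊗[R] R' →ₐ[FractionRing R] FractionRing R' :=
    Algebra.TensorProduct.lift (Algebra.ofId _ _) (IsScalarTower.toAlgHom R R' (FractionRing R')) fun _ _ => .all _ _
  have h : IsAlgebraic (FractionRing R) (algebraMap R' (FractionRing R') r) := by
    have h1 : μ ((1 : FractionRing R) ⊗ₜ[R] r) = algebraMap R' (FractionRing R') r := by simp [μ]
    rw [← h1]
    exact ((Algebra.IsIntegral.isIntegral (R := FractionRing R) ((1 : FractionRing R) ⊗ₜ[R] r)).map μ).isAlgebraic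
  exact (isAlgebraic_algebraMap_iff (IsFractionRing.injective R' (FractionRing R'))).1
    ((IsFractionRing.isAlgebraic_iff R (FractionRing R) (FractionRing R')).2 h)

/-- the residue extension of a generically algebraic extension is trivial -/
theorem surjective_residue [IsAlgClosed (ResidueField R)] (hinj : Function.Injective (algebraMap R R'))
    [IsLocalHom (algebraMap R R')] (halg : ∀ r : R', IsAlgebraic R r) :
    Function.Surjective ((IsLocalRing.residue R').comp (algebraMap R R')) := by
  obtain ⟨ϖ, hϖ⟩ := IsDiscreteValuationRing.exists_irreducible R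
  have hC : Irreducible (C ϖ : R[X]) := (Polynomial.prime_C_iff.2 hϖ.prime).irreducible
  have hint : ∀ a : ResidueField R', IsIntegral (ResidueField R) a := fun a => by
    obtain ⟨r, rfl⟩ := IsLocalRing.residue_surjective a
    obtain ⟨Q, hQ, hQr⟩ := halg r
    obtain ⟨n, Q₀, hndvd, rfl⟩ := WfDvdMonoid.max_power_factor hQ hC
    rw [map_mul, map_pow, aeval_C, mul_eq_zero] at hQr
    have hQ₀r : aeval r Q₀ = 0 := hQr.resolve_left
      (pow_ne_zero n ((map_ne_zero_iff _ hinj).2 hϖ.ne_zero))
    refine IsAlgebraic.isIntegral ⟨Q₀.map (IsLocalRing.residue R), fun h => hndvd ?_, ?_⟩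
    · rw [C_dvd_iff_dvd_coeff]
      intro i
      rw [← Ideal.mem_span_singleton, ← hϖ.maximalIdeal_eq, ← IsLocalRing.residue_eq_zero_iff, ← coeff_map, h,
        coeff_zero]
    · rw [aeval_def, eval₂_map, show (algebraMap (ResidueField R) (ResidueField R')).comp (IsLocalRing.residue R) =
        (IsLocalRing.residue R').comp (algebraMap R R') from RingHom.ext fun _ => rfl, ← hom_eval₂,
        show eval₂ (algebraMap R R') r Q₀ = 0 from hQ₀r, map_zero]
  haveI : Algebra.IsIntegral (ResidueField R) (ResidueField R') := ⟨hint⟩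
  intro a
  obtain ⟨b, rfl⟩ := (IsAlgClosed.algebraMap_bijective_of_isIntegral
    (k := ResidueField R) (K := ResidueField R')).2 a
  obtain ⟨c, rfl⟩ := IsLocalRing.residue_surjective b
  exact ⟨c, rfl⟩

variable {B : Type u} [CommRing B] [IsDomain B] [IsDiscreteValuationRing B] [Algebra R B]

/-- base change to a domain inside the geometric generic fibre -/
theorem isDomain_tensor_of_field (hm : maximalIdeal B = (maximalIdeal R).map (algebraMap R B))
    {F : Type u} [Field F] [Algebra R F] (hF : IsDomain (F ⊗[R] B)) (ι : R' →ₐ[R] F) (hι : Function.Injective ι) :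
    IsDomain (B ⊗[R] R') := by
  haveI := flat_of_maximalIdeal_eq hm
  let β : B ⊗[R] R' →ₐ[R] F ⊗[R] B :=
    (Algebra.TensorProduct.comm R B F).toAlgHom.comp (Algebra.TensorProduct.map (AlgHom.id R B) ι)
  have hβ : Function.Injective β :=
    (Algebra.TensorProduct.comm R B F).injective.comp
      (Module.Flat.lTensor_preserves_injective_linearMap ι.toLinearMap hι)
  exact hβ.isDomain β.toRingHom

/-- the tensor product is a discrete valuation ring -/
theorem isDVR_tensor (hm : maximalIdeal B = (maximalIdeal R).map (algebraMap R B))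
    (hinj : Function.Injective (algebraMap R R')) [IsLocalHom (algebraMap R R')]
    (halg : ∀ r : R', IsAlgebraic R r)
    (hres : Function.Surjective ((IsLocalRing.residue R').comp (algebraMap R R')))
    [IsDomain (B ⊗[R] R')] : IsDiscreteValuationRing (B ⊗[R] R') := by
  obtain ⟨ϖ, hϖ⟩ := IsDiscreteValuationRing.exists_irreducible R
  obtain ⟨π, hπ⟩ := IsDiscreteValuationRing.exists_irreducible R'
  haveI := flat_of_maximalIdeal_eq hm
  let jB : B →ₐ[R] B ⊗[R] R' := Algebra.TensorProduct.includeLeft
  let j' : R' →ₐ[R] B ⊗[R] R' := Algebra.TensorProduct.includeRight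
  haveI : Module.Flat R R' := FlatDvr.flat_of_isSMulRegular hϖ (IsSMulRegular.of_right_eq_zero_of_smul fun x hx => by
    rw [Algebra.smul_def] at hx
    exact (mul_eq_zero.1 hx).resolve_left ((map_ne_zero_iff _ hinj).2 hϖ.ne_zero))
  have hj' : Function.Injective j' :=
    Algebra.TensorProduct.includeRight_injective (A := B) (B := R') (injective_algebraMap hm)
  let P := j' π
  -- the residue map
  let kB := ResidueField B
  let ρ₀ : R →+* kB := (IsLocalRing.residue B).comp (algebraMap R B)
  have hker : ∀ c : R, c ∈ maximalIdeal R → ρ₀ c = 0 := fun c hc =>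
    (IsLocalRing.residue_eq_zero_iff _).2 (hm.ge (Ideal.mem_map_of_mem _ hc))
  let q : R →+* ResidueField R' := (IsLocalRing.residue R').comp (algebraMap R R')
  have hq : RingHom.ker q ≤ RingHom.ker ρ₀ := fun c hc => hker c (by
    by_contra h
    exact (IsLocalRing.residue_eq_zero_iff _).1 hc ((not_not.1 fun hu => h hu).map (algebraMap R R')))
  let ρ : R' →ₐ[R] kB :=
    { (q.liftOfSurjective hres ⟨ρ₀, hq⟩).comp (IsLocalRing.residue R') with
      commutes' := fun c => RingHom.liftOfRightInverse_comp_apply q (Function.surjInv hres) (Function.rightInverse_surjInv hres) ⟨ρ₀, hq⟩ c }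
  let θ : B ⊗[R] R' →ₐ[R] kB := Algebra.TensorProduct.lift (IsScalarTower.toAlgHom R B kB) ρ fun _ _ => .all _ _
  have hρπ : ρ π = 0 := by
    change q.liftOfSurjective hres ⟨ρ₀, hq⟩ (IsLocalRing.residue R' π) = 0
    rw [(IsLocalRing.residue_eq_zero_iff _).2 (hπ.maximalIdeal_eq.ge (Ideal.mem_span_singleton_self π)), map_zero]
  have hθP : θ P = 0 := by simp [θ, P, j', hρπ]
  have hθB : ∀ b, θ (jB b) = IsLocalRing.residue B b := fun b => by simp [θ, jB]; rfl
  have hmem : ∀ b ∈ maximalIdeal B, jB b ∈ Ideal.span {P} := fun b hb => by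
    rw [hm, hϖ.maximalIdeal_eq, Ideal.map_span, Set.image_singleton, Ideal.mem_span_singleton'] at hb
    obtain ⟨b', rfl⟩ := hb
    rw [map_mul, jB.commutes, ← j'.commutes]
    refine Ideal.mul_mem_left _ _ (Ideal.mem_span_singleton.2 (map_dvd j' ?_))
    rw [← Ideal.mem_span_singleton, ← hπ.maximalIdeal_eq]
    exact map_nonunit (algebraMap R R') ϖ hϖ.not_isUnit
  have hdec : ∀ z : B ⊗[R] R', ∃ b, z - jB b ∈ Ideal.span {P} := fun z => by
    induction z using TensorProduct.induction_on with
    | zero => exact ⟨0, by simp⟩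
    | tmul b r =>
      obtain ⟨c, hc⟩ := hres (IsLocalRing.residue R' r)
      have h : r - algebraMap R R' c ∈ maximalIdeal R' := by
        rw [← IsLocalRing.residue_eq_zero_iff, map_sub, sub_eq_zero]; exact hc.symm
      rw [hπ.maximalIdeal_eq, Ideal.mem_span_singleton'] at h
      obtain ⟨r', hr'⟩ := h
      refine ⟨c • b, Ideal.mem_span_singleton'.2 ⟨b ⊗ₜ r', ?_⟩⟩
      change b ⊗ₜ r' * ((1 : B) ⊗ₜ π) = b ⊗ₜ r - (c • b) ⊗ₜ[R] (1 : R')
      rw [Algebra.TensorProduct.tmul_mul_tmul, mul_one, hr', tmul_sub, smul_tmul, Algebra.smul_def, mul_one]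
    | add z w hz hw =>
      obtain ⟨b, hb⟩ := hz
      obtain ⟨b', hb'⟩ := hw
      exact ⟨b + b', by rw [map_add, add_sub_add_comm]; exact Ideal.add_mem _ hb hb'⟩
  have hθ0 : ∀ z, θ z = 0 ↔ P ∣ z := fun z => by
    refine ⟨fun h => ?_, fun ⟨w, hw⟩ => by rw [hw, map_mul, hθP, zero_mul]⟩
    obtain ⟨b, hb⟩ := hdec z
    obtain ⟨w, hw⟩ := Ideal.mem_span_singleton.1 hb
    have hb0 : b ∈ maximalIdeal B := by
      rw [← IsLocalRing.residue_eq_zero_iff, ← hθB]
      have := congrArg θ hw
      rw [map_sub, h, map_mul, hθP, zero_mul, zero_sub, neg_eq_zero] at this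
      exact this
    rw [← Ideal.mem_span_singleton, ← sub_add_cancel z (jB b)]
    exact Ideal.add_mem _ hb (hmem b hb0)
  have hP0 : P ≠ 0 := (map_ne_zero_iff j' hj').2 hπ.ne_zero
  have hP : Prime P := ⟨hP0, fun h => not_isUnit_zero (hθP ▸ h.map θ), fun a b h => by
    rw [← hθ0, map_mul, mul_eq_zero] at h
    exact h.imp (hθ0 a).1 (hθ0 b).1⟩
  refine IsDiscreteValuationRing.ofHasUnitMulPowIrreducibleFactorization ⟨P, hP.irreducible, fun {z} hz => ?_⟩
  have hjB : Function.Injective jB := by
    refine (injective_iff_map_eq_zero jB).2 fun b hb => ?_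
    by_contra h0
    obtain ⟨n, v, rfl⟩ := IsDiscreteValuationRing.eq_unit_mul_pow_irreducible h0 (irreducible_algebraMap hm hϖ)
    rw [map_mul, map_pow, jB.commutes, ← j'.commutes] at hb
    exact mul_ne_zero (v.map jB.toRingHom.toMonoidHom).ne_zero
      (pow_ne_zero n ((map_ne_zero_iff j' hj').2 ((map_ne_zero_iff _ hinj).2 hϖ.ne_zero))) hb
  haveI : FaithfulSMul B (B ⊗[R] R') := (faithfulSMul_iff_algebraMap_injective B _).2 hjB
  have hzalg : IsAlgebraic B z := by
    induction z using TensorProduct.induction_on with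
    | zero => exact isAlgebraic_zero
    | tmul b r =>
      rw [show b ⊗ₜ[R] r = algebraMap B (B ⊗[R] R') b * j' r from
        (by simp [Algebra.TensorProduct.algebraMap_apply, j'])]
      exact (isAlgebraic_algebraMap b).mul
        (IsAlgebraic.extendScalars (injective_algebraMap hm) ((halg r).algHom j'))
    | add z w hzi hwi =>
      rcases eq_or_ne z 0 with rfl | h1
      · rw [zero_add] at hz ⊢; exact hwi hz
      rcases eq_or_ne w 0 with rfl | h2
      · rw [add_zero]; exact hzi h1
      exact (hzi h1).add (hwi h2)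
  obtain ⟨c, hc, hzc⟩ := hzalg.exists_nonzero_dvd (mem_nonZeroDivisors_of_ne_zero hz)
  obtain ⟨n, v, rfl⟩ := IsDiscreteValuationRing.eq_unit_mul_pow_irreducible hc (irreducible_algebraMap hm hϖ)
  obtain ⟨e, v', hv'⟩ := IsDiscreteValuationRing.eq_unit_mul_pow_irreducible
    ((map_ne_zero_iff _ hinj).2 hϖ.ne_zero) hπ
  have hdvd : z ∣ P ^ (e * n) := by
    refine hzc.trans (Associated.dvd ?_)
    rw [map_mul, map_pow, ← IsScalarTower.algebraMap_apply, ← j'.commutes, hv', map_mul, map_pow, mul_pow, ← pow_mul,
      ← mul_assoc]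
    exact associated_unit_mul_left _ _ (((v.isUnit).map _).mul ((v'.isUnit.map _).pow n))
  obtain ⟨i, -, hi⟩ := (dvd_prime_pow hP _).1 hdvd
  exact ⟨i, hi.symm⟩

end Groth.Agent.DvrSpec
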