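import Groth.Agent.DvrSpec.Global
import Groth.Agent.FlatDvr.Scheme

/-!
Base change of an unramified extension of discrete valuation rings.
-/

set_option autoImplicit false
set_option linter.style.haveILetI false
set_option backward.isDefEq.respectTransparency false
set_option backward.isDefEq.respectTransparency.types false
set_option maxHeartbeats 1000000

universe u

open CategoryTheory Category Limits AlgebraicGeometry IsLocalRing TensorProduct

namespace Groth.Agent.DvrSpec

/-- a domain of `F ⊗ A` gives one of `F ⊗ B` for a localisation `B` of `A` -/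
theorem isDomain_tensor_localization {R : Type u} [CommRing R] {A B F : Type u} [CommRing A] [CommRing B] [CommRing F]
    [Algebra R A] [Algebra R B] [Algebra R F] [Algebra A B] [IsScalarTower R A B] (M : Submonoid A)
    [IsLocalization M B] [Module.Flat R A] [Module.Flat R F] [Nontrivial (F ⊗[R] B)]
    (hF : Function.Injective (algebraMap R F)) (hdom : Nontrivial (F ⊗[R] A) → IsDomain (F ⊗[R] A)) :
    IsDomain (F ⊗[R] B) := by
  let α : A →ₐ[R] B := IsScalarTower.toAlgHom R A B
  let β : F ⊗[R] A →ₐ[R] F ⊗[R] B := Algebra.TensorProduct.map (AlgHom.id R F) α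
  haveI hnt : Nontrivial (F ⊗[R] A) := β.toRingHom.domain_nontrivial
  haveI := hdom hnt
  have hi : Function.Injective fun a : A => (1 : F) ⊗ₜ[R] a := by
    intro a b h
    exact Algebra.TensorProduct.includeRight_injective (A := F) (B := A) hF h
  have hu : ∀ s ∈ M, IsUnit ((1 : F) ⊗ₜ[R] α s) := fun s hs =>
    (IsLocalization.map_units B ⟨s, hs⟩).map (Algebra.TensorProduct.includeRight : B →ₐ[R] F ⊗[R] B)
  have hα : Function.Injective α := by
    refine (injective_iff_map_eq_zero α).2 fun a ha => hi ?_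
    obtain ⟨⟨s, hs⟩, h⟩ := (IsLocalization.map_eq_zero_iff M B a).1 ha
    have h0 : ((1 : F) ⊗ₜ[R] s) * ((1 : F) ⊗ₜ[R] a) = 0 := by
      rw [Algebra.TensorProduct.tmul_mul_tmul, h, tmul_zero]
    refine ((mul_eq_zero.1 h0).resolve_left fun h1 => ?_).trans (tmul_zero A (1 : F)).symm
    refine (hu s hs).ne_zero ?_
    have h2 := congrArg β h1
    rw [map_zero] at h2
    exact h2
  have hβ : Function.Injective β := Module.Flat.lTensor_preserves_injective_linearMap α.toLinearMap hα
  have hsurj : ∀ z : F ⊗[R] B, ∃ (z₀ : F ⊗[R] A) (s : A), s ∈ M ∧ z * ((1 : F) ⊗ₜ[R] α s) = β z₀ := by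
    intro z
    induction z using TensorProduct.induction_on with
    | zero => exact ⟨0, 1, M.one_mem, by simp⟩
    | tmul c b =>
      obtain ⟨a, ⟨s, hs⟩, rfl⟩ := IsLocalization.exists_mk'_eq M b
      refine ⟨c ⊗ₜ a, s, hs, ?_⟩
      rw [Algebra.TensorProduct.tmul_mul_tmul, mul_one]
      exact congrArg (c ⊗ₜ[R] ·) (IsLocalization.mk'_spec B a ⟨s, hs⟩)
    | add z w hz hw =>
      obtain ⟨z₀, s, hs, hz⟩ := hz
      obtain ⟨w₀, s', hs', hw⟩ := hw
      refine ⟨z₀ * ((1 : F) ⊗ₜ s') + w₀ * ((1 : F) ⊗ₜ s), s * s', M.mul_mem hs hs', ?_⟩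
      rw [map_add β, map_mul β, map_mul β, ← hz, ← hw, map_mul α,
        show β ((1 : F) ⊗ₜ s') = (1 : F) ⊗ₜ α s' from rfl, show β ((1 : F) ⊗ₜ s) = (1 : F) ⊗ₜ α s from rfl,
        show (1 : F) ⊗ₜ[R] (α s * α s') = ((1 : F) ⊗ₜ α s) * ((1 : F) ⊗ₜ α s') by
          rw [Algebra.TensorProduct.tmul_mul_tmul, mul_one]]
      ring
  haveI : NoZeroDivisors (F ⊗[R] B) := ⟨fun {z w} h => by
    obtain ⟨z₀, s, hs, hz⟩ := hsurj z
    obtain ⟨w₀, s', hs', hw⟩ := hsurj w
    have h0 : z₀ * w₀ = 0 := hβ (by
      rw [map_mul, map_zero, ← hz, ← hw, mul_mul_mul_comm, h, zero_mul])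
    rcases mul_eq_zero.1 h0 with h1 | h1
    · rw [h1, map_zero] at hz
      exact Or.inl ((hu s hs).mul_left_eq_zero.1 hz)
    · rw [h1, map_zero] at hw
      exact Or.inr ((hu s' hs').mul_left_eq_zero.1 hw)⟩
  exact NoZeroDivisors.to_isDomain _

variable {R : Type u} [CommRing R] [IsDomain R] [IsDiscreteValuationRing R]
  {B : Type u} [CommRing B] [IsDomain B] [IsDiscreteValuationRing B] [Algebra R B]

/-- the image of a uniformiser is a uniformiser -/
theorem irreducible_algebraMap (hm : maximalIdeal B = (maximalIdeal R).map (algebraMap R B)) {ϖ : R}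
    (hϖ : Irreducible ϖ) : Irreducible (algebraMap R B ϖ) := by
  refine (IsDiscreteValuationRing.irreducible_iff_uniformizer _).2 ?_
  rw [hm, hϖ.maximalIdeal_eq, Ideal.map_span, Set.image_singleton]

theorem injective_algebraMap (hm : maximalIdeal B = (maximalIdeal R).map (algebraMap R B)) :
    Function.Injective (algebraMap R B) := by
  obtain ⟨ϖ, hϖ⟩ := IsDiscreteValuationRing.exists_irreducible R
  refine (injective_iff_map_eq_zero _).2 fun c hc => ?_
  by_contra h
  obtain ⟨n, u, rfl⟩ := IsDiscreteValuationRing.eq_unit_mul_pow_irreducible h hϖ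
  rw [map_mul, map_pow] at hc
  exact mul_ne_zero (u.map (algebraMap R B).toMonoidHom).ne_zero (pow_ne_zero n (irreducible_algebraMap hm hϖ).ne_zero) hc

theorem flat_of_maximalIdeal_eq (hm : maximalIdeal B = (maximalIdeal R).map (algebraMap R B)) : Module.Flat R B := by
  obtain ⟨ϖ, hϖ⟩ := IsDiscreteValuationRing.exists_irreducible R
  exact FlatDvr.flat_of_isSMulRegular hϖ (IsSMulRegular.of_right_eq_zero_of_smul fun x hx => by
    rw [Algebra.smul_def] at hx
    exact (mul_eq_zero.1 hx).resolve_left (irreducible_algebraMap hm hϖ).ne_zero)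

/-- the tensor product with an algebraic extension of the fraction field is a field once it is a domain -/
theorem isField_tensor (hm : maximalIdeal B = (maximalIdeal R).map (algebraMap R B))
    (F : Type u) [Field F] [Algebra R F] [Algebra (FractionRing R) F] [IsScalarTower R (FractionRing R) F]
    [Algebra.IsAlgebraic (FractionRing R) F] [IsDomain (F ⊗[R] B)] : IsField (F ⊗[R] B) := by
  obtain ⟨ϖ, hϖ⟩ := IsDiscreteValuationRing.exists_irreducible R
  have hπ := irreducible_algebraMap (B := B) hm hϖ
  let j : B →+* F ⊗[R] B := (Algebra.TensorProduct.includeRight : B →ₐ[R] F ⊗[R] B).toRingHom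
  let k : F →+* F ⊗[R] B := (Algebra.TensorProduct.includeLeft : F →ₐ[R] F ⊗[R] B).toRingHom
  have hjk : ∀ c : R, j (algebraMap R B c) = k (algebraMap R F c) := fun c =>
    ((Algebra.TensorProduct.includeRight : B →ₐ[R] F ⊗[R] B).commutes c).trans
      ((Algebra.TensorProduct.includeLeft : F →ₐ[R] F ⊗[R] B).commutes c).symm
  have hF : Function.Injective (algebraMap R F) := by
    rw [IsScalarTower.algebraMap_eq R (FractionRing R) F]
    exact (algebraMap (FractionRing R) F).injective.comp (IsFractionRing.injective R (FractionRing R))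
  have hu : ∀ b : nonZeroDivisors B, IsUnit (j b) := fun b => by
    obtain ⟨n, v, hv⟩ := IsDiscreteValuationRing.eq_unit_mul_pow_irreducible (nonZeroDivisors.ne_zero b.2) hπ
    rw [hv, map_mul, map_pow, hjk]
    exact ((v.isUnit).map j).mul (((IsUnit.mk0 _ fun h => hϖ.ne_zero (hF (h.trans (map_zero _).symm)))).map k |>.pow n)
  let ψ : FractionRing B →+* F ⊗[R] B := IsLocalization.lift hu
  letI := ψ.toAlgebra
  let ι : FractionRing R →+* FractionRing B :=
    IsFractionRing.map (A := R) (K := FractionRing R) (B := B) (L := FractionRing B) (injective_algebraMap hm)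
  have hι : ψ.comp ι = k.comp (algebraMap (FractionRing R) F) := by
    refine IsLocalization.ringHom_ext (nonZeroDivisors R) (RingHom.ext fun c => ?_)
    simp only [RingHom.comp_apply, ι, IsFractionRing.map, IsLocalization.map_eq]
    rw [← IsScalarTower.algebraMap_apply R (FractionRing R) F, ← hjk]
    exact IsLocalization.lift_eq hu _
  haveI : Algebra.IsIntegral (FractionRing B) (F ⊗[R] B) := ⟨fun z => by
    induction z using TensorProduct.induction_on with
    | zero => exact isIntegral_zero
    | tmul c b =>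
      rw [show c ⊗ₜ[R] b = k c * j b by simp [k, j]]
      refine IsIntegral.mul ?_ ?_
      · obtain ⟨P, hP, hP0⟩ := (Algebra.IsIntegral.isIntegral (R := FractionRing R) c)
        refine ⟨P.map ι, hP.map ι, ?_⟩
        rw [Polynomial.eval₂_map, show (algebraMap (FractionRing B) (F ⊗[R] B)).comp ι =
          k.comp (algebraMap (FractionRing R) F) from hι, ← Polynomial.hom_eval₂, hP0, map_zero]
      · rw [show j b = algebraMap (FractionRing B) (F ⊗[R] B) (algebraMap B _ b) from (IsLocalization.lift_eq hu b).symm]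
        exact isIntegral_algebraMap
    | add z w hz hw => exact hz.add hw⟩
  exact isField_of_isIntegral_of_isField' (Field.toIsField (FractionRing B))

/-- the geometric generic fibre of the local ring at a generic point of the special fibre is a field -/
theorem isField_tensor_stalk [IsAlgClosed (ResidueField R)] {X : Scheme.{u}}
    (f : X ⟶ Spec (CommRingCat.of R)) [IsProper f] [Flat f]
    {XK : Scheme.{u}} {gK : XK ⟶ X} {fK : XK ⟶ Spec (CommRingCat.of (FractionRing R))}
    (hK : IsPullback gK fK f (Spec.map (CommRingCat.ofHom (algebraMap R (FractionRing R))))) [Smooth fK]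
    {Xs : Scheme.{u}} {gs : Xs ⟶ X} {fs : Xs ⟶ Spec (CommRingCat.of (ResidueField R))}
    (hs : IsPullback gs fs f (Spec.map (CommRingCat.ofHom (IsLocalRing.residue R))))
    [ConnectedSpace Xs] [AlgebraicGeometry.IsReduced Xs] (x : X) (e : X.presheaf.stalk x ≅ CommRingCat.of B)
    (he : e.hom.hom.comp (toStalk f x) = algebraMap R B)
    (hm : maximalIdeal B = (maximalIdeal R).map (algebraMap R B))
    (F : Type u) [Field F] [Algebra R F] [Algebra (FractionRing R) F] [IsScalarTower R (FractionRing R) F]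
    [Algebra.IsAlgebraic (FractionRing R) F] : IsField (F ⊗[R] B) := by
  obtain ⟨U, hU, hxU, -⟩ := exists_isAffineOpen_mem_and_subset (U := (⊤ : X.Opens)) (x := x) trivial
  obtain ⟨φ, hφ⟩ := Spec.map_surjective (hU.fromSpec ≫ f)
  letI := φ.hom.toAlgebra
  haveI : Module.Flat R Γ(X, U) := by
    have : Flat (Spec.map φ) := hφ ▸ inferInstance
    rw [HasRingHomProperty.Spec_iff (P := @Flat)] at this
    exact this
  let ψ : Γ(X, U) →+* B := e.hom.hom.comp (X.presheaf.germ U x hxU).hom
  letI := ψ.toAlgebra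
  haveI : IsScalarTower R Γ(X, U) B := .of_algebraMap_eq' (by
    rw [← he, ← germ_comp_eq_toStalk f hU φ hφ x hxU]; rfl)
  haveI : IsLocalization (hU.primeIdealOf ⟨x, hxU⟩).asIdeal.primeCompl B := by
    letI := X.presheaf.algebra_section_stalk ⟨x, hxU⟩
    haveI := hU.isLocalization_stalk ⟨x, hxU⟩
    let e' : X.presheaf.stalk x ≃ₐ[Γ(X, U)] B :=
      AlgEquiv.ofRingEquiv (f := e.commRingCatIsoToRingEquiv) fun a => rfl
    exact IsLocalization.isLocalization_of_algEquiv _ e'
  haveI : Module.Flat R B := flat_of_maximalIdeal_eq hm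
  have hF : Function.Injective (algebraMap R F) := by
    rw [IsScalarTower.algebraMap_eq R (FractionRing R) F]
    exact (algebraMap (FractionRing R) F).injective.comp (IsFractionRing.injective R (FractionRing R))
  haveI : Module.Flat R F :=
    Module.Flat.trans R (FractionRing R) F
  haveI : Nontrivial (F ⊗[R] B) :=
    (Algebra.TensorProduct.includeRight_injective (A := F) (B := B) hF).nontrivial
  haveI : IsDomain (F ⊗[R] B) := by
    refine isDomain_tensor_localization (A := Γ(X, U)) (hU.primeIdealOf ⟨x, hxU⟩).asIdeal.primeCompl hF fun hnt => ?_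
    haveI := isIntegral_pullback f hs hK F
    let g := Spec.map (CommRingCat.ofHom (algebraMap R F))
    let q : pullback (Spec.map (CommRingCat.ofHom (algebraMap R Γ(X, U)))) g ⟶ pullback f g :=
      pullback.map _ _ _ _ hU.fromSpec (𝟙 _) (𝟙 _) (by rw [Category.comp_id]; exact hφ) (by simp)
    haveI : IsOpenImmersion q :=
      @Scheme.pullback_map_isOpenImmersion _ _ _ _ _ _ _ _ _ _ hU.fromSpec _ _ _ _ inferInstance inferInstance inferInstance
    haveI : Nontrivial (Γ(X, U) ⊗[R] F) := (Algebra.TensorProduct.comm R Γ(X, U) F).toEquiv.nontrivial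
    let q' : Spec (CommRingCat.of (Γ(X, U) ⊗[R] F)) ⟶ pullback f g := (pullbackSpecIso R Γ(X, U) F).inv ≫ q
    haveI : Nonempty ↥(Spec (CommRingCat.of (Γ(X, U) ⊗[R] F))) :=
      inferInstanceAs (Nonempty (PrimeSpectrum (Γ(X, U) ⊗[R] F)))
    haveI : IsIntegral (Spec (CommRingCat.of (Γ(X, U) ⊗[R] F))) := isIntegral_of_isOpenImmersion q'
    haveI : IsDomain (Γ(X, U) ⊗[R] F) :=
      (affine_isIntegral_iff (CommRingCat.of (Γ(X, U) ⊗[R] F))).1 inferInstance
    exact (Algebra.TensorProduct.comm R F Γ(X, U)).toMulEquiv.isDomain _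
  exact isField_tensor hm F

end Groth.Agent.DvrSpec
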