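import Groth.Agent.DvrSpec.Stalk
import Groth.Agent.AltN1.Basic
import Groth.Agent.PerfPush.H0
import Groth.Agent.RadSections.Main
import Groth.Agent.RG.Dev.IntegralFibre

/-!
Proper flat schemes over a discrete valuation ring with connected reduced special fibre over an
algebraically closed residue field: global functions, connectedness of the geometric fibres.
-/

set_option autoImplicit false
set_option linter.style.haveILetI false
set_option backward.isDefEq.respectTransparency false
set_option backward.isDefEq.respectTransparency.types false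
set_option maxHeartbeats 1000000

universe u

open CategoryTheory Category Limits AlgebraicGeometry IsLocalRing TopologicalSpace Opposite

namespace Groth.Agent.DvrSpec

variable {R : Type u} [CommRing R] [IsDomain R] [IsDiscreteValuationRing R] {X : Scheme.{u}}
  (f : X ⟶ Spec (CommRingCat.of R))

/-- the structure map to global functions -/
noncomputable abbrev gl : R →+* Γ(X, ⊤) := Coh.toGlobal f

omit [IsDomain R] [IsDiscreteValuationRing R] in
/-- the structure map on an affine open, seen in the local rings -/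
theorem germ_comp_eq_toStalk {U : X.Opens} (hU : IsAffineOpen U) (φ : CommRingCat.of R ⟶ Γ(X, U))
    (hφ : Spec.map φ = hU.fromSpec ≫ f) (x : X) (hx : x ∈ U) :
    (X.presheaf.germ U x hx).hom.comp φ.hom = toStalk f x := by
  have h : Spec.map (φ ≫ X.presheaf.germ U x hx) =
      Spec.map ((Scheme.ΓSpecIso (CommRingCat.of R)).inv ≫ f.appTop ≫ X.presheaf.germ ⊤ x trivial) := by
    rw [Spec.map_comp, hφ, ← fromSpecStalk_comp f x, ← hU.fromSpecStalk_eq_fromSpecStalk hx]
    rfl
  exact congrArg CommRingCat.Hom.hom (Spec.map_injective h)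

variable [Flat f]

/-- a nonzero element of the base is regular on sections of a flat scheme -/
theorem eq_zero_of_mul_eq_zero {c : R} (hc : c ≠ 0) (V : X.Opens) (b : Γ(X, V))
    (hb : X.presheaf.map (homOfLE (le_top : V ≤ ⊤)).op (gl f c) * b = 0) : b = 0 := by
  refine TopCat.Sheaf.eq_of_locally_eq' X.sheaf (fun W : {W : X.affineOpens // W.1 ≤ V} => W.1.1) V
    (fun W => homOfLE W.2) (fun x hx => ?_) b 0 fun W => ?_
  · obtain ⟨W, hW, hxW, hWV⟩ := exists_isAffineOpen_mem_and_subset (U := V) hx
    exact Opens.mem_iSup.2 ⟨⟨⟨W, hW⟩, hWV⟩, hxW⟩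
  rw [map_zero]
  obtain ⟨⟨W, hW⟩, hWV⟩ := W
  obtain ⟨φ, hφ⟩ := Spec.map_surjective (hW.fromSpec ≫ f)
  letI := φ.hom.toAlgebra
  haveI : Module.Flat R Γ(X, W) := by
    have : Flat (Spec.map φ) := hφ ▸ inferInstance
    rw [HasRingHomProperty.Spec_iff (P := @Flat)] at this
    exact this
  have h0 : X.presheaf.map (homOfLE hWV).op
      (X.presheaf.map (homOfLE (le_top : V ≤ ⊤)).op (gl f c) * b) = 0 := by rw [hb, map_zero]
  rw [map_mul] at h0
  have hc' : X.presheaf.map (homOfLE hWV).op (X.presheaf.map (homOfLE (le_top : V ≤ ⊤)).op (gl f c)) =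
      φ.hom c := TopCat.Presheaf.section_ext X.sheaf W _ _ fun x hx => by
    change X.presheaf.germ W x hx _ = X.presheaf.germ W x hx _
    rw [TopCat.Presheaf.germ_res_apply, TopCat.Presheaf.germ_res_apply]
    exact (RingHom.congr_fun (germ_comp_eq_toStalk f hW φ hφ x hx) c).symm
  rw [hc', ← smul_eq_mul] at h0
  have hreg : IsSMulRegular Γ(X, W) c :=
    Module.Flat.isSMulRegular_of_nonZeroDivisors (mem_nonZeroDivisors_of_ne_zero hc)
  exact hreg.right_eq_zero_of_smul (M := Γ(X, W)) h0

variable {Xs : Scheme.{u}} {gs : Xs ⟶ X} {fs : Xs ⟶ Spec (CommRingCat.of (ResidueField R))}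
  (hs : IsPullback gs fs f (Spec.map (CommRingCat.ofHom (IsLocalRing.residue R))))

include hs in
omit [Flat f] in
/-- a global function vanishing on the special fibre is locally divisible by the uniformiser -/
theorem mem_map_of_appTop_eq_zero {ϖ : R} (hϖ : Irreducible ϖ) (a : Γ(X, ⊤)) (ha : gs.appTop a = 0) (x : X) :
    X.presheaf.germ ⊤ x trivial a ∈ Ideal.span {toStalk f x ϖ} := by
  haveI : IsClosedImmersion gs := MorphismProperty.of_isPullback hs.flip
    (IsClosedImmersion.spec_of_surjective _ IsLocalRing.residue_surjective)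
  by_cases hu : IsUnit (toStalk f x ϖ)
  · rw [Ideal.span_singleton_eq_top.2 hu]; trivial
  have hfx : f x = closedPoint R := by
    have h2 : f x = Spec.map ((Scheme.ΓSpecIso (CommRingCat.of R)).inv ≫ f.appTop ≫ X.presheaf.germ ⊤ x trivial)
        (closedPoint _) := by
      rw [← fromSpecStalk_comp f x, Scheme.Hom.comp_apply, Scheme.fromSpecStalk_closedPoint]
    rw [h2]
    refine PrimeSpectrum.ext ?_
    refine ((maximalIdeal.isMaximal R).eq_of_le (PrimeSpectrum.isPrime _).ne_top ?_).symm
    rw [hϖ.maximalIdeal_eq, Ideal.span_singleton_le_iff_mem]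
    exact hu
  obtain ⟨z, rfl, -⟩ := Scheme.exists_preimage_of_isPullback hs x (closedPoint (ResidueField R))
    (by rw [hfx]; exact (comap_closedPoint (IsLocalRing.residue R)).symm)
  rw [← Set.image_singleton, ← Ideal.map_span, ← hϖ.maximalIdeal_eq]
  refine mem_map_of_stalkMap_eq_zero hs z _ ?_
  refine (Scheme.Hom.germ_stalkMap_apply gs ⊤ z trivial a).trans ?_
  exact (congrArg (Xs.presheaf.germ ⊤ z trivial) ha).trans (map_zero _)

include hs in
/-- a global function vanishing on the special fibre is divisible by the uniformiser -/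
theorem exists_mul_eq {ϖ : R} (hϖ : Irreducible ϖ) (a : Γ(X, ⊤)) (ha : gs.appTop a = 0) :
    ∃ b : Γ(X, ⊤), gl f ϖ * b = a := by
  have hloc : ∀ x : X, ∃ (V : X.Opens) (_ : x ∈ V) (b : Γ(X, V)),
      X.presheaf.map (homOfLE (le_top : V ≤ ⊤)).op (gl f ϖ) * b =
        X.presheaf.map (homOfLE (le_top : V ≤ ⊤)).op a := fun x => by
    obtain ⟨c, hc⟩ := Ideal.mem_span_singleton'.1 (mem_map_of_appTop_eq_zero f hs hϖ a ha x)
    obtain ⟨V, hxV, b, rfl⟩ := TopCat.Presheaf.exists_germ_eq X.presheaf c
    have : X.presheaf.germ V x hxV (X.presheaf.map (homOfLE (le_top : V ≤ ⊤)).op (gl f ϖ) * b) =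
        X.presheaf.germ V x hxV (X.presheaf.map (homOfLE (le_top : V ≤ ⊤)).op a) := by
      rw [map_mul, TopCat.Presheaf.germ_res_apply, TopCat.Presheaf.germ_res_apply, mul_comm, ← hc]
      rfl
    obtain ⟨W, hxW, i₁, i₂, hW⟩ := X.presheaf.germ_eq x hxV hxV _ _ this
    refine ⟨W, hxW, X.presheaf.map i₁.op b, ?_⟩
    rw [map_mul] at hW
    simpa only [← ConcreteCategory.comp_apply, ← Functor.map_comp, ← op_comp, homOfLE_leOfHom,
      Subsingleton.elim (i₁ ≫ homOfLE (le_top : V ≤ ⊤)) (homOfLE (le_top : W ≤ ⊤)),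
      Subsingleton.elim (i₂ ≫ homOfLE (le_top : V ≤ ⊤)) (homOfLE (le_top : W ≤ ⊤))] using hW
  choose V hV b hb using hloc
  obtain ⟨g, hg, -⟩ := TopCat.Sheaf.existsUnique_gluing' X.sheaf V ⊤ (fun x => homOfLE le_top)
    (fun x _ => Opens.mem_iSup.2 ⟨x, hV x⟩) b fun x y => by
      refine sub_eq_zero.1 (eq_zero_of_mul_eq_zero f hϖ.ne_zero (V x ⊓ V y) _ ?_)
      have e : ∀ (z : X) (h : V x ⊓ V y ≤ V z),
          X.presheaf.map (homOfLE (le_top : V x ⊓ V y ≤ ⊤)).op (gl f ϖ) *
            X.presheaf.map (homOfLE h).op (b z) =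
          X.presheaf.map (homOfLE (le_top : V x ⊓ V y ≤ ⊤)).op a := fun z h => by
        have := congrArg (X.presheaf.map (homOfLE h).op) (hb z)
        rw [map_mul] at this
        simpa only [← ConcreteCategory.comp_apply, ← Functor.map_comp, ← op_comp,
          homOfLE_comp] using this
      rw [mul_sub]
      exact sub_eq_zero.2 ((e x inf_le_left).trans (e y inf_le_right).symm)
  refine ⟨g, TopCat.Sheaf.eq_of_locally_eq' X.sheaf V ⊤ (fun x => homOfLE le_top)
    (fun x _ => Opens.mem_iSup.2 ⟨x, hV x⟩) _ _ fun x => ?_⟩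
  rw [map_mul, hg x]
  exact hb x

variable [IsProper f] [IsAlgClosed (ResidueField R)] [ConnectedSpace Xs] [IsReduced Xs]

include hs in
/-- the global functions are the base -/
theorem bijective_toGlobal : Function.Bijective (gl f : R →+* Γ(X, ⊤)) := by
  classical
  haveI : IsProper fs := MorphismProperty.of_isPullback (P := @IsProper) hs ‹_›
  obtain ⟨ϖ, hϖ⟩ := IsDiscreteValuationRing.exists_irreducible R
  let φ : R →+* Γ(X, ⊤) := gl f
  refine ⟨(injective_iff_map_eq_zero φ).2 fun c hc => ?_, ?_⟩
  · by_contra h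
    have h1 : (1 : Γ(X, ⊤)) = 0 := by
      refine eq_zero_of_mul_eq_zero f h ⊤ 1 ?_
      rw [mul_one]
      exact (congrArg _ hc).trans (map_zero _)
    have h2 := congrArg (X.presheaf.germ ⊤ (gs (Classical.arbitrary Xs)) trivial) h1
    rw [map_one, map_zero] at h2
    exact one_ne_zero h2
  letI : Algebra R Γ(X, ⊤) := φ.toAlgebra
  haveI : Module.Finite R Γ(X, ⊤) := AltN1.finite_global f
  have hk := PerfPush.bijective_appTop_of_algClosed fs
  have hle : (⊤ : Submodule R Γ(X, ⊤)) ≤
      LinearMap.range (Algebra.linearMap R Γ(X, ⊤)) ⊔ maximalIdeal R • ⊤ := fun a _ => by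
    obtain ⟨c', hc'⟩ := hk.2 (gs.appTop a)
    obtain ⟨c, hc⟩ := IsLocalRing.residue_surjective ((Scheme.ΓSpecIso (CommRingCat.of (ResidueField R))).hom c')
    have h1 : gs.appTop (φ c) = gs.appTop a := by
      rw [← hc']
      have e1 := ConcreteCategory.congr_hom (congrArg Scheme.Hom.appTop hs.w)
        ((Scheme.ΓSpecIso (CommRingCat.of R)).inv c)
      simp only [Scheme.Hom.comp_appTop] at e1
      refine e1.trans (congrArg fs.appTop ?_)
      refine (ConcreteCategory.congr_hom
        (Scheme.ΓSpecIso_inv_naturality (CommRingCat.ofHom (IsLocalRing.residue R))) c).symm.trans ?_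
      exact (congrArg (Scheme.ΓSpecIso (CommRingCat.of (ResidueField R))).inv hc).trans
        (ConcreteCategory.congr_hom (Scheme.ΓSpecIso _).hom_inv_id c')
    obtain ⟨b, hb⟩ := exists_mul_eq f hs hϖ (a - φ c) (by rw [map_sub, h1, sub_self])
    refine Submodule.mem_sup.2 ⟨φ c, ⟨c, rfl⟩, φ ϖ * b, ?_, by rw [show φ ϖ * b = a - φ c from hb]; abel⟩
    rw [show φ ϖ * b = ϖ • b from (Algebra.smul_def ϖ b).symm]
    exact Submodule.smul_mem_smul (hϖ.maximalIdeal_eq.ge (Ideal.mem_span_singleton_self ϖ)) trivial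
  have htop := Submodule.le_of_le_smul_of_le_jacobson_bot Module.Finite.fg_top
    (IsLocalRing.maximalIdeal_le_jacobson ⊥) hle
  intro a
  exact htop (Submodule.mem_top : a ∈ ⊤)

include hs in
/-- geometrically connected -/
theorem geometricallyConnected : GeometricallyConnected f := by
  obtain ⟨-, hgc, -⟩ := RadSections.stein_toSpecΓ f
  have hb := bijective_toGlobal f hs
  haveI : IsIso f.appTop := by
    refine (ConcreteCategory.isIso_iff_bijective _).2 ?_
    have h2 := ConcreteCategory.bijective_of_isIso (Scheme.ΓSpecIso (CommRingCat.of R)).inv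
    exact (Function.Bijective.of_comp_iff _ h2).1 hb
  haveI := hgc
  have : f = X.toSpecΓ ≫ Spec.map f.appTop ≫ inv (Spec (CommRingCat.of R)).toSpecΓ := by
    rw [← Category.assoc, ← Scheme.toSpecΓ_naturality, Category.assoc, IsIso.hom_inv_id, Category.comp_id]
  rw [this]
  exact (MorphismProperty.cancel_right_of_respectsIso @GeometricallyConnected X.toSpecΓ _).2 hgc

include hs in
/-- geometric generic fibres are integral -/
theorem isIntegral_pullback {XK : Scheme.{u}} {gK : XK ⟶ X} {fK : XK ⟶ Spec (CommRingCat.of (FractionRing R))}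
    (hK : IsPullback gK fK f (Spec.map (CommRingCat.ofHom (algebraMap R (FractionRing R))))) [Smooth fK]
    (F : Type u) [Field F] [Algebra R F] [Algebra (FractionRing R) F] [IsScalarTower R (FractionRing R) F] :
    IsIntegral (pullback f (Spec.map (CommRingCat.ofHom (algebraMap R F)))) := by
  haveI := geometricallyConnected f hs
  let i := Spec.map (CommRingCat.ofHom (algebraMap R F))
  let j := Spec.map (CommRingCat.ofHom (algebraMap (FractionRing R) F))
  have hij : i = j ≫ Spec.map (CommRingCat.ofHom (algebraMap R (FractionRing R))) := by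
    rw [← Spec.map_comp, ← CommRingCat.ofHom_comp, ← IsScalarTower.algebraMap_eq]
  let l : pullback f i ⟶ XK := hK.lift (pullback.fst f i) (pullback.snd f i ≫ j)
    (by rw [Category.assoc, ← hij, pullback.condition])
  have hl : IsPullback l (pullback.snd f i) fK j := by
    refine IsPullback.of_right ?_ (hK.lift_snd _ _ _) hK
    rw [hK.lift_fst, ← hij]
    exact IsPullback.of_hasPullback f i
  haveI : Smooth (pullback.snd f i) := MorphismProperty.of_isPullback hl ‹_›
  haveI : ConnectedSpace ↥(pullback f i) :=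
    GeometricallyConnected.geometrically_connectedSpace (f := f) i _ _ (.of_hasPullback f i)
  haveI : CompactSpace ↥(pullback f i) := QuasiCompact.compactSpace_of_compactSpace (pullback.snd f i)
  exact RGDev.isIntegral_of_smooth_connected (pullback.snd f i)

end Groth.Agent.DvrSpec
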