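import Mathlib
import Groth.Prelude.Def_Coh

/-!
Local rings of the special fibre over a local ring.
-/

set_option autoImplicit false
set_option linter.style.haveILetI false
set_option backward.isDefEq.respectTransparency false
set_option backward.isDefEq.respectTransparency.types false

universe u

open CategoryTheory Category Limits AlgebraicGeometry IsLocalRing

namespace Groth.Agent.DvrSpec

/-- `Spec` of a local ring of `X`, over the base -/
theorem fromSpecStalk_comp {R : Type u} [CommRing R] {X : Scheme.{u}} (f : X ⟶ Spec (CommRingCat.of R)) (x : X) :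
    X.fromSpecStalk x ≫ f =
      Spec.map ((Scheme.ΓSpecIso (CommRingCat.of R)).inv ≫ f.appTop ≫ X.presheaf.germ ⊤ x trivial) := by
  have hf : f = X.toSpecΓ ≫ Spec.map ((Scheme.ΓSpecIso (CommRingCat.of R)).inv ≫ f.appTop) := by
    rw [Spec.map_comp, ← Category.assoc, ← Scheme.toSpecΓ_naturality, Category.assoc]
    exact ((congrArg (f ≫ ·) (toSpecΓ_SpecMap_ΓSpecIso_inv (CommRingCat.of R))).trans (Category.comp_id f)).symm
  conv_lhs => rw [hf]
  rw [← Category.assoc, Scheme.fromSpecStalk_toSpecΓ, ← Spec.map_comp, Category.assoc]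

variable {R : Type u} [CommRing R] [IsLocalRing R] {X Xs : Scheme.{u}} {f : X ⟶ Spec (CommRingCat.of R)}
  {gs : Xs ⟶ X} {fs : Xs ⟶ Spec (CommRingCat.of (ResidueField R))}
  (hs : IsPullback gs fs f (Spec.map (CommRingCat.ofHom (IsLocalRing.residue R))))

/-- the structure map of a local ring of `X` -/
noncomputable abbrev toStalk (f : X ⟶ Spec (CommRingCat.of R)) (x : X) : R →+* X.presheaf.stalk x :=
  ((Scheme.ΓSpecIso (CommRingCat.of R)).inv ≫ f.appTop ≫ X.presheaf.germ ⊤ x trivial).hom

include hs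

/-- points of the special fibre lie over the closed point -/
theorem map_le_maximalIdeal (z : Xs) :
    (maximalIdeal R).map (toStalk f (gs z)) ≤ maximalIdeal (X.presheaf.stalk (gs z)) := by
  rw [Ideal.map_le_iff_le_comap]
  intro a ha
  have h1 : f (gs z) = closedPoint R := by
    rw [← Scheme.Hom.comp_apply, hs.w, Scheme.Hom.comp_apply]
    refine Eq.trans ?_ (comap_closedPoint (IsLocalRing.residue R))
    exact congrArg (PrimeSpectrum.comap (IsLocalRing.residue R)) (Subsingleton.elim (α := PrimeSpectrum (ResidueField R)) _ _)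
  have h2 : Spec.map (((Scheme.ΓSpecIso (CommRingCat.of R)).inv ≫ f.appTop ≫ X.presheaf.germ ⊤ (gs z) trivial)) (closedPoint _) = closedPoint R := by
    rw [← fromSpecStalk_comp f (gs z), Scheme.Hom.comp_apply, Scheme.fromSpecStalk_closedPoint, h1]
  exact ((congrArg PrimeSpectrum.asIdeal h2).symm.le ha :)

/-- the local ring of the special fibre is the quotient by the maximal ideal of the base -/
theorem mem_map_of_stalkMap_eq_zero [IsClosedImmersion gs] (z : Xs) :
    ∀ c, gs.stalkMap z c = 0 → c ∈ (maximalIdeal R).map (toStalk f (gs z)) := by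
  let T := X.presheaf.stalk (gs z)
  let 𝔪 : Ideal T := (maximalIdeal R).map (toStalk f (gs z))
  haveI : Nontrivial (T ⧸ 𝔪) := Ideal.Quotient.nontrivial_iff.2 fun e =>
    (maximalIdeal.isMaximal T).ne_top (top_le_iff.1 (e ▸ map_le_maximalIdeal hs z))
  haveI : IsLocalRing (T ⧸ 𝔪) := IsLocalRing.of_surjective' _ Ideal.Quotient.mk_surjective
  let Q : CommRingCat.{u} := CommRingCat.of (T ⧸ 𝔪)
  haveI : IsLocalRing Q := ‹IsLocalRing (T ⧸ 𝔪)›
  let q : T ⟶ Q := CommRingCat.ofHom (Ideal.Quotient.mk 𝔪)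
  haveI hq : IsLocalHom q.hom := IsLocalHom.of_surjective _ Ideal.Quotient.mk_surjective
  let ψ : CommRingCat.of (ResidueField R) ⟶ Q :=
    CommRingCat.ofHom (Ideal.quotientMap 𝔪 (toStalk f (gs z)) Ideal.le_comap_map)
  have hψ : CommRingCat.ofHom (IsLocalRing.residue R) ≫ ψ = ((Scheme.ΓSpecIso (CommRingCat.of R)).inv ≫ f.appTop ≫ X.presheaf.germ ⊤ (gs z) trivial) ≫ q := rfl
  let a : Spec Q ⟶ X := Spec.map q ≫ X.fromSpecStalk (gs z)
  have ha : a ≫ f = Spec.map ψ ≫ Spec.map (CommRingCat.ofHom (IsLocalRing.residue R)) := by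
    rw [Category.assoc, fromSpecStalk_comp, ← Spec.map_comp, ← Spec.map_comp, hψ]
  let L : Spec Q ⟶ Xs := hs.lift a (Spec.map ψ) ha
  have hL : L ≫ gs = a := hs.lift_fst _ _ _
  have hacp : a (closedPoint Q) = gs z := by
    rw [Scheme.Hom.comp_apply, Spec_closedPoint, Scheme.fromSpecStalk_closedPoint]
  have hz : L (closedPoint Q) = z := by
    refine gs.isEmbedding.injective ?_
    rw [← Scheme.Hom.comp_apply, hL, hacp]
  intro c hc
  have h1 : ∀ (w : Xs) (hw : L (closedPoint Q) = w) (c : X.presheaf.stalk (gs w)), gs.stalkMap w c = 0 →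
      Scheme.stalkClosedPointTo (L ≫ gs)
        ((X.presheaf.stalkCongr (.of_eq (show gs w = (L ≫ gs) (closedPoint Q) by rw [Scheme.Hom.comp_apply, hw]))).hom c) = 0 := by
    rintro _ rfl c hc
    rw [Scheme.stalkClosedPointTo_comp]
    change Scheme.stalkClosedPointTo L (gs.stalkMap _ _) = 0
    simp only [TopCat.Presheaf.stalkCongr_hom, TopCat.Presheaf.stalkSpecializes_refl]
    exact (congrArg (Scheme.stalkClosedPointTo L) hc).trans (map_zero _)
  have h2 : ∀ (g : Spec Q ⟶ X) (_ : g = a) (hg : gs z = g (closedPoint Q)),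
      (X.presheaf.stalkCongr (.of_eq hg)).hom ≫ Scheme.stalkClosedPointTo g = q := by
    rintro _ rfl hg
    refine TopCat.Presheaf.stalk_hom_ext _ fun U hU => ?_
    rw [TopCat.Presheaf.stalkCongr_hom, TopCat.Presheaf.germ_stalkSpecializes_assoc,
      Scheme.germ_stalkClosedPointTo_Spec_fromSpecStalk]
  have h3 := h1 z hz c hc
  rw [← CategoryTheory.comp_apply, h2 _ hL (by rw [hL, hacp])] at h3
  exact Ideal.Quotient.eq_zero_iff_mem.1 h3

/-- at a generic point of a reduced special fibre the maximal ideal comes from the base -/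
theorem maximalIdeal_eq [IsReduced Xs] (ξ : Xs) (hξ : closure ({ξ} : Set Xs) ∈ irreducibleComponents Xs) :
    maximalIdeal (X.presheaf.stalk (gs ξ)) = (maximalIdeal R).map (toStalk f (gs ξ)) := by
  haveI : IsClosedImmersion gs := MorphismProperty.of_isPullback hs.flip
    (IsClosedImmersion.spec_of_surjective _ IsLocalRing.residue_surjective)
  refine le_antisymm (fun c hc => mem_map_of_stalkMap_eq_zero hs ξ c ?_) (map_le_maximalIdeal hs ξ)
  letI : Field (Xs.presheaf.stalk ξ) := (isField_stalk_of_closure_mem_irreducibleComponents Xs ξ hξ).toField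
  by_contra h
  exact hc (isUnit_of_map_unit (gs.stalkMap ξ).hom c (Ne.isUnit h))

end Groth.Agent.DvrSpec
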